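import Groth.Agent.RegBiequi.Basic
import Groth.Agent.DimFormula.JacobsonLocal
import Groth.Agent.FlatLoc6.RegCM
import Groth.Agent.RegLoc6.Serre
import Groth.Agent.S0603

/-!
# Rectified depth over regular Jacobson bases
-/

set_option autoImplicit false
set_option linter.style.haveILetI false
set_option linter.deprecated false

universe u

open AlgebraicGeometry CategoryTheory IsLocalRing Order Topology

namespace Groth.Agent.RegBiequi

/-- `depth + dim cl{x}` as an extended natural number. -/
noncomputable def pstar {X : Scheme.{u}} [IsLocallyNoetherian X] (F : X.Modules) (x : X) : ℕ∞ :=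
  LocCoh.depth (X.presheaf.stalk x) (F.presheaf.stalk x) + (DimFormula.dd x : ℕ)

theorem coe_pstar {X : Scheme.{u}} [IsLocallyNoetherian X] [JacobsonSpace X] (h : DimFormula.DimGood X)
    (F : X.Modules) (x : X) :
    ((LocCoh.depth (X.presheaf.stalk x) (F.presheaf.stalk x) : ℕ∞) : WithBot ℕ∞) +
      topologicalKrullDim ↥(closure ({x} : Set X)) = ((pstar F x : ℕ∞) : WithBot ℕ∞) := by
  rw [h.dim_closure, ← WithBot.coe_add]
  rfl

theorem catenary_of_regular (R : Type u) [CommRing R] [IsRegularLocalRing R] : CAlg.IsUniversallyCatenary R := by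
  haveI := RegLoc6.isRegularRing_of_isRegularLocalRing R
  haveI := FlatLoc6.isCM_of_isRegularRing R
  exact S0603.result R

/-- On a regular scheme the maximal generization is unique. -/
theorem maximal_unique {X : Scheme.{u}} {x η ζ : X} [IsDomain (X.presheaf.stalk x)]
    (hη : η ⤳ x) (hζ : ζ ⤳ x) (hηm : ∀ z, z ⤳ η → z = η) (hζm : ∀ z, z ⤳ ζ → z = ζ) : η = ζ := by
  let c := X.fromSpecStalk x
  let g : X := c ⟨⊥, Ideal.isPrime_bot⟩
  have hgen : ∀ t, t ⤳ x → g ⤳ t := fun t ht => by
    obtain ⟨P, rfl⟩ := DimFormula.fromSpecStalk_range_of_specializes ht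
    exact ((PrimeSpectrum.le_iff_specializes ⟨⊥, Ideal.isPrime_bot⟩ P).1 bot_le).map c.continuous
  rw [← hηm g (hgen η hη), ← hζm g (hgen ζ hζ)]

/-- The local ring of an affine scheme at a point. -/
noncomputable def stalkEquiv (P : Type u) [CommRing P] (q : PrimeSpectrum P) :
    Localization.AtPrime q.asIdeal ≃+* (Spec (CommRingCat.of P)).presheaf.stalk q :=
  (@IsLocalization.algEquiv _ _ q.asIdeal.primeCompl (Localization.AtPrime q.asIdeal) _ _ _
    ((AlgebraicGeometry.Spec.structureSheaf P).presheaf.stalk q) _ _ inferInstance).toRingEquiv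

/-- `depth + dim cl` is lower semicontinuous on regular Jacobson schemes with good dimension. -/
theorem exists_nhd_le_regular {P : Type u} [CommRing P] [IsRegularRing P]
    [JacobsonSpace ↥(Spec (CommRingCat.of P))] [IsLocallyNoetherian (Spec (CommRingCat.of P))]
    (h : DimFormula.DimGood (Spec (CommRingCat.of P)))
    (M : Type u) [AddCommGroup M] [Module P M] [Module.Finite P M] (n : ℕ) (p : PrimeSpectrum P)
    (hp : (n : ℕ∞) ≤ LocCoh.depth (Localization.AtPrime p.asIdeal) (LocalizedModule p.asIdeal.primeCompl M) +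
      (DimFormula.dd (X := Spec (CommRingCat.of P)) p : ℕ)) :
    ∃ W : Set (PrimeSpectrum P), IsOpen W ∧ p ∈ W ∧ ∀ q ∈ W,
      (n : ℕ∞) ≤ LocCoh.depth (Localization.AtPrime q.asIdeal) (LocalizedModule q.asIdeal.primeCompl M) +
        (DimFormula.dd (X := Spec (CommRingCat.of P)) q : ℕ) := by
  let Y : Scheme.{u} := Spec (CommRingCat.of P)
  haveI hreg : ∀ q : Y, IsRegularLocalRing (Localization.AtPrime q.asIdeal) := fun q =>
    IsRegularRing.isRegularLocalRing_localization q.asIdeal
  have hdom : ∀ q : Y, IsDomain (Y.presheaf.stalk q) := fun q => by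
    haveI : IsDomain (Localization.AtPrime q.asIdeal) := RegLoc6.isDomain_of_isRegularLocalRing _
    exact (stalkEquiv P q).symm.toMulEquiv.isDomain
  have hdim : ∀ q : Y, ringKrullDim (Localization.AtPrime q.asIdeal) = (DimFormula.codim q : WithBot ℕ∞) := fun q => by
    rw [← DimFormula.ringKrullDim_stalk q]
    exact ringKrullDim_eq_of_ringEquiv (stalkEquiv P q)
  obtain ⟨η, hη, hmax⟩ := FibDim.exists_maximal_generization (α := Y) p
  have key : ∀ q : Y, η ⤳ q → DimFormula.dd η = DimFormula.dd q + DimFormula.codim q := fun q hq => by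
    obtain ⟨ζ, hζ, hζm, he⟩ := DimFormula.exists_maximal_cd_eq_codim q
    haveI := hdom q
    rw [← he, ← maximal_unique hq hζ hmax hζm]
    exact h.dd_add hq
  obtain ⟨W₀, hpW₀, hW₀⟩ := FibDim.exists_nhd_generizing (X := Y) (Z := Set.univ) isClosed_univ p
  have hgen : ∀ q ∈ W₀, η ⤳ q := fun q hq => by
    obtain ⟨ζ, -, hζp, hζq⟩ := hW₀ q hq trivial
    obtain ⟨ξ, hξ, hξm⟩ := FibDim.exists_maximal_generization (α := Y) ζ
    haveI := hdom p
    rw [maximal_unique hη (hξ.trans hζp) hmax hξm]
    exact hξ.trans hζq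
  rcases le_or_gt n (DimFormula.dd η) with hn | hn
  · have hd : Defect (Localization.AtPrime p.asIdeal) (LocalizedModule p.asIdeal.primeCompl M)
        (DimFormula.dd η - n) := by
      rw [Defect, hdim, cast_le_iff]
      have := key p hη
      generalize LocCoh.depth (Localization.AtPrime p.asIdeal) (LocalizedModule p.asIdeal.primeCompl M) = a at hp ⊢
      induction a using ENat.recTopCoe with
      | top => simp
      | coe a =>
        have h' : n ≤ a + DimFormula.dd (X := Y) p := by exact_mod_cast hp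
        exact_mod_cast (show DimFormula.codim (X := Y) p ≤ a + (DimFormula.dd η - n) by omega)
    obtain ⟨U, hU, hpU, hUq⟩ := exists_nhd_defect M (fun q _ => IsRegularRing.isRegularLocalRing_localization q)
      _ p.asIdeal hd
    refine ⟨(W₀ : Set Y) ∩ U, W₀.isOpen.inter hU, ⟨hpW₀, hpU⟩, fun q hq => ?_⟩
    have h1 := hUq q hq.2
    rw [Defect, hdim, cast_le_iff] at h1
    have := key q (hgen q hq.1)
    generalize LocCoh.depth (Localization.AtPrime q.asIdeal) (LocalizedModule q.asIdeal.primeCompl M) = a at h1 ⊢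
    induction a using ENat.recTopCoe with
    | top => simp
    | coe a =>
      have h' : DimFormula.codim (X := Y) q ≤ a + (DimFormula.dd η - n) := by exact_mod_cast h1
      exact_mod_cast (show n ≤ a + DimFormula.dd (X := Y) q by omega)
  · refine ⟨(Module.support P M)ᶜ, (Module.isClosed_support (R := P) (M := M)).isOpen_compl, fun hs => ?_, fun q hq => ?_⟩
    · haveI : Nontrivial (LocalizedModule p.asIdeal.primeCompl M) := hs
      have hle := (LC.depth_le_supportDim (R := Localization.AtPrime p.asIdeal)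
        (LocalizedModule p.asIdeal.primeCompl M)).trans ((Module.supportDim_le_ringKrullDim _ _).trans_eq (hdim p))
      have := key p hη
      obtain ⟨a, ha⟩ := LC.exists_depth_eq_nat (R := Localization.AtPrime p.asIdeal)
        (LocalizedModule p.asIdeal.primeCompl M)
      rw [ha] at hp hle
      have h' : n ≤ a + DimFormula.dd (X := Y) p := by exact_mod_cast hp
      have h'' : a ≤ DimFormula.codim (X := Y) p := by exact_mod_cast hle
      omega
    · haveI := Module.notMem_support_iff.mp hq
      rw [LocCoh.depth, LocCoh.idealDepth, if_pos (Subsingleton.elim _ _)]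
      simp

/-- Lower semicontinuity of the rectified depth over a regular Jacobson base. -/
theorem isOpen_le_pstar {X S : Scheme.{u}} [IsLocallyNoetherian S] [IsLocallyNoetherian X] [JacobsonSpace S]
    (hreg : ∀ s : S, IsRegularLocalRing (S.presheaf.stalk s)) (hS : DimFormula.DimGood S)
    (g : X ⟶ S) [LocallyOfFiniteType g] (F : X.Modules) (hF : Coh.IsCoh F) (n : ℕ) :
    IsOpen {x : X | (n : ℕ∞) ≤ pstar F x} := by
  have hcat : ∀ s : S, CAlg.IsUniversallyCatenary (S.presheaf.stalk s) := fun s => by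
    haveI := hreg s
    exact catenary_of_regular _
  haveI : JacobsonSpace X := LocallyOfFiniteType.jacobsonSpace g
  have hX := (DimFormula.dimGood_of_locallyOfFiniteType g hS hcat).1
  rw [isOpen_iff_forall_mem_open]
  intro x hx
  obtain ⟨V, hV, hxV, -⟩ := exists_isAffineOpen_mem_and_subset (U := (⊤ : S.Opens)) (x := g x) trivial
  obtain ⟨U, hU, hxU, hUV⟩ := exists_isAffineOpen_mem_and_subset (U := g ⁻¹ᵁ V) (x := x) hxV
  letI : Algebra Γ(S, V) Γ(X, U) := (g.appLE V U hUV).hom.toAlgebra
  haveI : Algebra.FiniteType Γ(S, V) Γ(X, U) := g.finiteType_appLE hV hU hUV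
  obtain ⟨m, π, hπ⟩ := Algebra.FiniteType.iff_quotient_mvPolynomial''.1 ‹Algebra.FiniteType Γ(S, V) Γ(X, U)›
  let P := MvPolynomial (Fin m) Γ(S, V)
  haveI : IsNoetherianRing Γ(S, V) := IsLocallyNoetherian.component_noetherian ⟨V, hV⟩
  haveI : IsRegularRing Γ(S, V) := isRegularRing_iff.mpr fun p hp => regular_localization hreg hV p
  haveI : IsRegularRing P := inferInstanceAs (IsRegularRing (MvPolynomial (Fin m) Γ(S, V)))
  let gP : Spec (CommRingCat.of P) ⟶ S := Spec.map (CommRingCat.ofHom (MvPolynomial.C (σ := Fin m))) ≫ hV.fromSpec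
  haveI : LocallyOfFiniteType (Spec.map (CommRingCat.ofHom (MvPolynomial.C (R := Γ(S, V)) (σ := Fin m)))) :=
    (HasRingHomProperty.Spec_iff (P := @LocallyOfFiniteType)).2 (RingHom.finiteType_algebraMap.2
      (inferInstance : Algebra.FiniteType Γ(S, V) P))
  haveI : JacobsonSpace ↥(Spec (CommRingCat.of P)) := LocallyOfFiniteType.jacobsonSpace gP
  haveI := LocallyOfFiniteType.isLocallyNoetherian gP
  have hY := (DimFormula.dimGood_of_locallyOfFiniteType gP hS hcat).1
  letI : Algebra P Γ(X, U) := π.toRingHom.toAlgebra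
  letI : Module P Γ(F, U) := Module.compHom _ π.toRingHom
  haveI : IsScalarTower P Γ(X, U) Γ(F, U) := IsScalarTower.of_algebraMap_smul fun _ _ => rfl
  haveI : Module.Finite P Γ(X, U) := Module.Finite.of_surjective (Algebra.linearMap P Γ(X, U)) hπ
  haveI := QCoh.finite_sections hF hU
  haveI : Module.Finite P Γ(F, U) := Module.Finite.trans Γ(X, U) Γ(F, U)
  let i : Spec Γ(X, U) ⟶ Spec (CommRingCat.of P) := Spec.map (CommRingCat.ofHom π.toRingHom)
  haveI : IsClosedImmersion i := IsClosedImmersion.spec_of_surjective _ hπ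
  have key : ∀ z (hz : z ∈ U), pstar F z =
      LocCoh.depth (Localization.AtPrime (i (hU.primeIdealOf ⟨z, hz⟩)).asIdeal)
        (LocalizedModule (i (hU.primeIdealOf ⟨z, hz⟩)).asIdeal.primeCompl Γ(F, U)) +
        (DimFormula.dd (i (hU.primeIdealOf ⟨z, hz⟩)) : ℕ) := fun z hz => by
    set p := hU.primeIdealOf ⟨z, hz⟩
    have hdep := (LC.depth_localized_comap (M := Γ(F, U)) (S := P) hπ p.asIdeal).trans (depth_stalk F hF.1 hU hz)
    have h1 : topologicalKrullDim ↥((U : Set X) ∩ closure {z}) = ((DimFormula.dd z : ℕ∞) : WithBot ℕ∞) := by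
      rw [hX.topologicalKrullDim_inter U.isOpen isClosed_closure]
      refine le_antisymm (iSup_le fun t => ?_) (le_iSup_of_le ⟨z, hz, subset_closure rfl⟩ le_rfl)
      exact_mod_cast hX.dd_le (specializes_iff_mem_closure.2 t.2.2)
    have h2 : hU.fromSpec '' closure ({p} : Set (Spec Γ(X, U))) = (U : Set X) ∩ closure {z} := by
      rw [hU.fromSpec.isOpenEmbedding.isEmbedding.closure_eq_preimage_closure_image, Set.image_preimage_eq_inter_range,
        hU.range_fromSpec, Set.inter_comm]
      exact congrArg (fun A => (U : Set X) ∩ closure A)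
        (Set.image_singleton.trans (congrArg (fun a => ({a} : Set X)) (hU.fromSpec_primeIdealOf ⟨z, hz⟩)))
    have h3 : i '' closure ({p} : Set (Spec Γ(X, U))) = closure {i p} := by
      rw [← i.isClosedEmbedding.closure_image_eq]
      exact congrArg closure Set.image_singleton
    have h4 : ((DimFormula.dd (i p) : ℕ∞) : WithBot ℕ∞) = ((DimFormula.dd z : ℕ∞) : WithBot ℕ∞) := by
      rw [← h1, ← hY.dim_closure, ← (Homeomorph.setCongr h3).isHomeomorph.topologicalKrullDim_eq,
        ← (i.isClosedEmbedding.isEmbedding.homeomorphImage _).isHomeomorph.topologicalKrullDim_eq,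
        (hU.fromSpec.isOpenEmbedding.isEmbedding.homeomorphImage _).isHomeomorph.topologicalKrullDim_eq,
        (Homeomorph.setCongr h2).isHomeomorph.topologicalKrullDim_eq]
    rw [pstar, ← hdep, show DimFormula.dd z = DimFormula.dd (i p) by exact_mod_cast h4.symm]
    rfl
  have hx' : (n : ℕ∞) ≤ pstar F x := hx
  rw [key x hxU] at hx'
  obtain ⟨W, hW, hpW, hWq⟩ := exists_nhd_le_regular hY Γ(F, U) n _ hx'
  refine ⟨hU.fromSpec '' (i ⁻¹' W), ?_, hU.fromSpec.isOpenEmbedding.isOpenMap _ (hW.preimage i.continuous),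
    ⟨_, hpW, hU.fromSpec_primeIdealOf ⟨x, hxU⟩⟩⟩
  rintro _ ⟨q, hq, rfl⟩
  have hz : hU.fromSpec q ∈ U := (Set.ext_iff.1 hU.range_fromSpec _).1 (Set.mem_range_self q)
  have he : hU.primeIdealOf ⟨hU.fromSpec q, hz⟩ = q :=
    hU.fromSpec.isOpenEmbedding.injective (hU.fromSpec_primeIdealOf ⟨_, hz⟩)
  show (n : ℕ∞) ≤ pstar F (hU.fromSpec q)
  rw [key _ hz, he]
  exact hWq _ hq

end Groth.Agent.RegBiequi
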