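import Groth.Agent.DimFormula.Codim
import Groth.Agent.QCoh.Stalk
import Groth.Agent.QCoh.Support
import Groth.Agent.QCoh.AnnIdeal
import Mathlib.RingTheory.KrullDimension.Module

/-!
# The dimension of the stalk of a coherent module
-/

set_option autoImplicit false
set_option linter.style.haveILetI false
set_option backward.isDefEq.respectTransparency false
set_option backward.isDefEq.respectTransparency.types false

universe u

open AlgebraicGeometry CategoryTheory Topology

namespace Groth.Agent.RegBiequi

/-- The dimension of the stalk is the dimension of the generizations inside the support. -/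
theorem supportDim_stalk {X : Scheme.{u}} {F : X.Modules} (hF : Coh.IsCoh F) (x : X) :
    Module.supportDim (X.presheaf.stalk x) (F.presheaf.stalk x) =
      topologicalKrullDim ↥{t : X | t ∈ CohB1.support F ∧ t ⤳ x} := by
  obtain ⟨U, hU, hxU, -⟩ := exists_isAffineOpen_mem_and_subset (U := (⊤ : X.Opens)) (x := x) trivial
  let L : Type u := X.presheaf.stalk x
  let N : Type u := F.presheaf.stalk x
  let c := X.fromSpecStalk x
  haveI : Module.Finite L N := QCoh.finite_stalk_of_isFT hF.1 hF.2 x
  have hsupp : Module.support L N = c ⁻¹' CohB1.support F := by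
    ext Q
    letI := QCoh.stalkAlg (X := X) hxU
    letI := QCoh.stalkModule F hxU
    haveI := QCoh.isScalarTower_stalk F hxU
    haveI := QCoh.isLocalization_stalk' hU hxU
    haveI := QCoh.isLocalizedModule_germLin hF.1 hU hxU
    haveI := QCoh.finite_sections hF hU
    have hb : IsBaseChange L (QCoh.germLin F hxU) :=
      IsLocalizedModule.isBaseChange (hU.primeIdealOf ⟨x, hxU⟩).asIdeal.primeCompl L _
    rw [QCoh.mem_support_baseChange hb Q]
    have h1 : c Q = hU.fromSpec (PrimeSpectrum.comap (algebraMap Γ(X, U) L) Q) := by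
      show X.fromSpecStalk x Q = _
      rw [← hU.fromSpecStalk_eq_fromSpecStalk hxU]
      rfl
    have hy : c Q ∈ U := h1 ▸ ((Set.ext_iff.1 hU.range_fromSpec _).1 (Set.mem_range_self _))
    have h2 : hU.primeIdealOf ⟨c Q, hy⟩ = PrimeSpectrum.comap (algebraMap Γ(X, U) L) Q :=
      hU.fromSpec.isOpenEmbedding.injective ((hU.fromSpec_primeIdealOf ⟨_, hy⟩).trans h1)
    rw [← h2, QCoh.mem_moduleSupport_iff hF.1 hU hy]
    rfl
  have himg : c '' Module.support L N = {t : X | t ∈ CohB1.support F ∧ t ⤳ x} := by
    rw [hsupp, Set.image_preimage_eq_inter_range, Scheme.range_fromSpecStalk]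
    rfl
  rw [← (Homeomorph.setCongr himg).isHomeomorph.topologicalKrullDim_eq,
    ← (c.isEmbedding.homeomorphImage (Module.support L N)).isHomeomorph.topologicalKrullDim_eq,
    Module.supportDim_eq_ringKrullDim_quotient_annihilator,
    ← PrimeSpectrum.topologicalKrullDim_eq_ringKrullDim]
  have he := (PrimeSpectrum.isClosedEmbedding_comap_of_surjective _
    (Ideal.Quotient.mk (Module.annihilator L N)) Ideal.Quotient.mk_surjective).isEmbedding.toHomeomorph
  rw [he.isHomeomorph.topologicalKrullDim_eq]
  refine (Homeomorph.setCongr ?_).isHomeomorph.topologicalKrullDim_eq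
  rw [range_comap_of_surjective _ _ Ideal.Quotient.mk_surjective, Ideal.mk_ker,
    Module.support_eq_zeroLocus]

end Groth.Agent.RegBiequi
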