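import Groth.Agent.CplFib6.Codepth
import Groth.Agent.DimFormula.Jacobson
import Groth.Agent.QCoh.Stalk
import Groth.Agent.QCoh.Support
import Groth.Agent.Alg6.LocLoc

/-!
# Depth defect on regular schemes
-/

set_option autoImplicit false
set_option linter.style.haveILetI false

universe u

open AlgebraicGeometry CategoryTheory IsLocalRing Groth.Agent.RegLoc6

namespace Groth.Agent.RegBiequi

theorem exists_dim_depth_self (R : Type u) [CommRing R] [IsRegularLocalRing R] :
    ∃ d : ℕ, ringKrullDim R = d ∧ LocCoh.depth R R = d := by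
  haveI := LC.gorenstein_of_isRegularLocalRing (R := R)
  obtain ⟨d, h1, h2, -⟩ := LC.gorenstein_basic (R := R)
  exact ⟨d, h1, h2⟩

/-- `depth + defect ≥ dim`. -/
def Defect (R : Type u) [CommRing R] [IsLocalRing R] (M : Type u) [AddCommGroup M] [Module R M] (k : ℕ) : Prop :=
  ringKrullDim R ≤ ((LocCoh.depth R M : ℕ∞) : WithBot ℕ∞) + k

theorem exists_nhd_defect {R : Type u} [CommRing R] [IsNoetherianRing R] (M : Type u) [AddCommGroup M]
    [Module R M] [Module.Finite R M]
    (hreg : ∀ (p : Ideal R) [p.IsPrime], IsRegularLocalRing (Localization.AtPrime p))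
    (k : ℕ) (p : Ideal R) [p.IsPrime]
    (hp : Defect (Localization.AtPrime p) (LocalizedModule p.primeCompl M) k) :
    ∃ U : Set (PrimeSpectrum R), IsOpen U ∧ (⟨p, inferInstance⟩ : PrimeSpectrum R) ∈ U ∧
      ∀ q ∈ U, Defect (Localization.AtPrime q.asIdeal) (LocalizedModule q.asIdeal.primeCompl M) k := by
  haveI := hreg p
  obtain ⟨d, hd, -⟩ := exists_dim_depth_self (Localization.AtPrime p)
  rw [Defect, hd] at hp
  have hpd := LC.pdLE_of_le_depth (Localization.AtPrime p) d hd (LocalizedModule p.primeCompl M) k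
    (by exact_mod_cast hp)
  obtain ⟨U, hU, hpU, hUq⟩ := CplFib6.pdLE_spread k M p hpd
  refine ⟨U, hU, hpU, fun q hq => ?_⟩
  haveI := hreg q.asIdeal
  obtain ⟨e, he, he'⟩ := exists_dim_depth_self (Localization.AtPrime q.asIdeal)
  rw [Defect, he]
  rcases subsingleton_or_nontrivial (LocalizedModule q.asIdeal.primeCompl M) with hs | hs
  · have htop : LocCoh.depth (Localization.AtPrime q.asIdeal) (LocalizedModule q.asIdeal.primeCompl M) = ⊤ := by
      rw [LocCoh.depth, LocCoh.idealDepth, if_pos (Subsingleton.elim _ _)]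
    rw [htop]
    exact_mod_cast le_trans (le_top (a := (e : ℕ∞))) (le_add_right le_rfl)
  · have h5 := CplFib6.depth_add_ge _ _ k (hUq q hq)
    rw [he'] at h5
    exact_mod_cast h5

variable {X : Scheme.{u}}

theorem depth_stalk (F : X.Modules) (hF : Coh.IsQCoh F) {U : X.Opens} (hU : IsAffineOpen U) {x : X}
    (hx : x ∈ U) :
    LocCoh.depth (Localization.AtPrime (hU.primeIdealOf ⟨x, hx⟩).asIdeal)
        (LocalizedModule (hU.primeIdealOf ⟨x, hx⟩).asIdeal.primeCompl Γ(F, U)) =
      LocCoh.depth (X.presheaf.stalk x) (F.presheaf.stalk x) := by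
  letI := QCoh.stalkAlg (X := X) hx
  letI := QCoh.stalkModule F hx
  haveI := QCoh.isScalarTower_stalk F hx
  haveI := QCoh.isLocalization_stalk' hU hx
  haveI := QCoh.isLocalizedModule_germLin hF hU hx
  set q := (hU.primeIdealOf ⟨x, hx⟩).asIdeal
  let L := X.presheaf.stalk x
  let σa := IsLocalization.algEquiv q.primeCompl (Localization.AtPrime q) L
  let σ : Localization.AtPrime q →+* L := σa.toRingEquiv.toRingHom
  let e := IsLocalizedModule.iso q.primeCompl (QCoh.germLin F hx)
  exact Alg6.depth_eq_of_semilinear σ σa.surjective e.toAddEquiv fun z m => by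
    obtain ⟨⟨a, t⟩, hat⟩ := IsLocalization.surj q.primeCompl z
    have hu : IsUnit (algebraMap Γ(X, U) L (t : Γ(X, U))) := IsLocalization.map_units L t
    refine hu.smul_left_cancel.1 ?_
    have h1 : algebraMap Γ(X, U) L (t : Γ(X, U)) * σ z = algebraMap Γ(X, U) L a := by
      rw [← σa.commutes (t : Γ(X, U)), ← σa.commutes a]
      show σa _ * σa z = σa _
      rw [← map_mul, mul_comm, hat]
    have h2 : (t : Γ(X, U)) • z • m = a • m := by
      rw [← algebraMap_smul (Localization.AtPrime q) (t : Γ(X, U)) (z • m), smul_smul, mul_comm]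
      exact (congrArg (fun c => c • m) hat).trans (algebraMap_smul _ a m)
    rw [smul_smul, h1, algebraMap_smul, algebraMap_smul]
    show (t : Γ(X, U)) • e (z • m) = a • e m
    rw [← map_smul, h2, map_smul]

theorem defect_stalk_iff (F : X.Modules) (hF : Coh.IsQCoh F) {U : X.Opens} (hU : IsAffineOpen U) {x : X}
    (hx : x ∈ U) (k : ℕ) :
    Defect (X.presheaf.stalk x) (F.presheaf.stalk x) k ↔
      Defect (Localization.AtPrime (hU.primeIdealOf ⟨x, hx⟩).asIdeal)
        (LocalizedModule (hU.primeIdealOf ⟨x, hx⟩).asIdeal.primeCompl Γ(F, U)) k := by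
  letI := QCoh.stalkAlg (X := X) hx
  haveI := QCoh.isLocalization_stalk' hU hx
  rw [Defect, Defect, depth_stalk F hF hU hx, ringKrullDim_eq_of_ringEquiv (IsLocalization.algEquiv
    (hU.primeIdealOf ⟨x, hx⟩).asIdeal.primeCompl (Localization.AtPrime (hU.primeIdealOf ⟨x, hx⟩).asIdeal)
      (X.presheaf.stalk x)).toRingEquiv]

theorem regular_localization (hreg : ∀ x : X, IsRegularLocalRing (X.presheaf.stalk x)) {U : X.Opens}
    (hU : IsAffineOpen U) (p : Ideal Γ(X, U)) [p.IsPrime] :
    IsRegularLocalRing (Localization.AtPrime p) := by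
  obtain ⟨y, hy, hyq⟩ := QCoh.exists_point hU ⟨p, inferInstance⟩
  have h : (hU.primeIdealOf ⟨y, hy⟩).asIdeal = p := congrArg PrimeSpectrum.asIdeal hyq
  subst h
  letI := QCoh.stalkAlg (X := X) hy
  haveI := QCoh.isLocalization_stalk' hU hy
  haveI := hreg y
  exact IsRegularLocalRing.of_ringEquiv
    (IsLocalization.algEquiv (hU.primeIdealOf ⟨y, hy⟩).asIdeal.primeCompl (X.presheaf.stalk y) _).toRingEquiv

/-- On a regular scheme the loci `depth + k ≥ dim` are open. -/
theorem isOpen_defect [IsLocallyNoetherian X] (hreg : ∀ x : X, IsRegularLocalRing (X.presheaf.stalk x))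
    (F : X.Modules) (hF : Coh.IsCoh F) (k : ℕ) :
    IsOpen {x : X | Defect (X.presheaf.stalk x) (F.presheaf.stalk x) k} := by
  rw [isOpen_iff_forall_mem_open]
  intro x hx
  obtain ⟨U, hU, hxU, -⟩ := exists_isAffineOpen_mem_and_subset (U := (⊤ : X.Opens)) (x := x) trivial
  haveI : IsNoetherianRing Γ(X, U) := IsLocallyNoetherian.component_noetherian ⟨U, hU⟩
  haveI := QCoh.finite_sections hF hU
  have hregU : ∀ (p : Ideal Γ(X, U)) [p.IsPrime], IsRegularLocalRing (Localization.AtPrime p) := fun p _ =>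
    regular_localization hreg hU p
  obtain ⟨V, hV, hxV, hVq⟩ := exists_nhd_defect Γ(F, U) hregU k (hU.primeIdealOf ⟨x, hxU⟩).asIdeal
    ((defect_stalk_iff F hF.1 hU hxU k).1 hx)
  refine ⟨hU.fromSpec '' V, ?_, hU.fromSpec.isOpenEmbedding.isOpenMap _ hV,
    ⟨_, hxV, hU.fromSpec_primeIdealOf ⟨x, hxU⟩⟩⟩
  rintro _ ⟨q, hq, rfl⟩
  have hz : hU.fromSpec q ∈ U := (Set.ext_iff.1 hU.range_fromSpec _).1 (Set.mem_range_self q)
  refine (defect_stalk_iff F hF.1 hU hz k).2 ?_
  have he : hU.primeIdealOf ⟨hU.fromSpec q, hz⟩ = q :=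
    hU.fromSpec.isOpenEmbedding.injective (hU.fromSpec_primeIdealOf ⟨_, hz⟩)
  exact he.symm ▸ hVq q hq

/-- The generizations of a point with domain local ring lie in one component. -/
theorem exists_component {x : X} [IsDomain (X.presheaf.stalk x)] :
    ∃ C ∈ irreducibleComponents (X : Type u), x ∈ C ∧
      topologicalKrullDim ↥{t : X | t ∈ C ∧ t ⤳ x} = ringKrullDim (X.presheaf.stalk x) := by
  let c := X.fromSpecStalk x
  let η : X := c ⟨⊥, Ideal.isPrime_bot⟩
  have hgen : ∀ t, t ⤳ x → η ⤳ t := fun t ht => by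
    obtain ⟨P, rfl⟩ := DimFormula.fromSpecStalk_range_of_specializes ht
    exact ((PrimeSpectrum.le_iff_specializes ⟨⊥, Ideal.isPrime_bot⟩ P).1 bot_le).map c.continuous
  have hηx : η ⤳ x := hgen x specializes_rfl
  have hmax : ∀ z, z ⤳ η → z = η := fun z hz =>
    DimFormula.eq_of_specializes_of_specializes hz (hgen z (hz.trans hηx))
  refine ⟨closure {η}, FDescent.closure_mem_irreducibleComponents hmax, specializes_iff_mem_closure.1 hηx, ?_⟩
  have hset : {t : X | t ∈ closure ({η} : Set X) ∧ t ⤳ x} = Set.range c := by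
    ext t
    refine ⟨fun h => DimFormula.fromSpecStalk_range_of_specializes h.2, fun ht => ?_⟩
    have htx : t ⤳ x := by rwa [Scheme.range_fromSpecStalk] at ht
    exact ⟨specializes_iff_mem_closure.1 (hgen t htx), htx⟩
  rw [(Homeomorph.setCongr hset).isHomeomorph.topologicalKrullDim_eq,
    ← c.isEmbedding.toHomeomorph.isHomeomorph.topologicalKrullDim_eq,
    ← PrimeSpectrum.topologicalKrullDim_eq_ringKrullDim]
  rfl

/-- On a regular biequidimensional scheme `dim cl{x} + dim O_x = dim X`, all of them natural numbers. -/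
theorem exists_dims [IsLocallyNoetherian X] (hreg : ∀ x : X, IsRegularLocalRing (X.presheaf.stalk x))
    (hfin : topologicalKrullDim X < ⊤)
    (hcomp : ∀ C ∈ irreducibleComponents (X : Type u), topologicalKrullDim ↥C = topologicalKrullDim X)
    (hchain : ∀ (y : X) (T : Set X), IsClosed T → IsIrreducible T → y ∈ T →
      topologicalKrullDim ↥T = topologicalKrullDim ↥(closure ({y} : Set X)) + topologicalKrullDim ↥{t : X | t ∈ T ∧ t ⤳ y})
    (x : X) :
    ∃ c d D : ℕ, topologicalKrullDim ↥(closure ({x} : Set X)) = c ∧ ringKrullDim (X.presheaf.stalk x) = d ∧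
      LocCoh.depth (X.presheaf.stalk x) (X.presheaf.stalk x) = d ∧ topologicalKrullDim X = D ∧ c + d = D := by
  haveI := hreg x
  haveI : IsDomain (X.presheaf.stalk x) := isDomain_of_isRegularLocalRing _
  obtain ⟨d, hd, hd'⟩ := exists_dim_depth_self (X.presheaf.stalk x)
  obtain ⟨C, hC, hxC, hdim⟩ := exists_component (x := x)
  have hsum := hchain x C (isClosed_of_mem_irreducibleComponents C hC) hC.1 hxC
  rw [hcomp C hC, hdim, hd] at hsum
  generalize topologicalKrullDim ↥(closure ({x} : Set X)) = c at hsum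
  have hne : Nonempty X := ⟨x⟩
  have hD : topologicalKrullDim X ≠ ⊥ := by
    haveI : Nonempty (TopologicalSpace.IrreducibleCloseds X) :=
      ⟨⟨closure {x}, isIrreducible_singleton.closure, isClosed_closure⟩⟩
    exact ne_bot_of_le_ne_bot WithBot.zero_ne_bot Order.krullDim_nonneg
  generalize topologicalKrullDim X = D at hsum hfin hD
  induction D with
  | bot => exact absurd rfl hD
  | coe D =>
    induction D using ENat.recTopCoe with
    | top => exact absurd rfl hfin.ne
    | coe D =>
      induction c with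
      | bot => simp at hsum
      | coe c =>
        have h : (D : ℕ∞) = c + d := by exact_mod_cast hsum
        induction c using ENat.recTopCoe with
        | top => simp at h
        | coe c => exact ⟨c, d, D, rfl, hd, hd', rfl, by exact_mod_cast h.symm⟩

end Groth.Agent.RegBiequi

namespace Groth.Agent.RegBiequi

theorem cast_le_iff (a : ℕ∞) (n c : ℕ) :
    (n : WithBot ℕ∞) ≤ (a : WithBot ℕ∞) + c ↔ (n : ℕ∞) ≤ a + c := by
  rw [← WithBot.coe_natCast, ← WithBot.coe_natCast, ← WithBot.coe_add, WithBot.coe_le_coe]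

end Groth.Agent.RegBiequi
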